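import Groth.Agent.PBC.Bc0Comp

/-!
# Units and counits of direct and inverse images under a change of base
-/

set_option autoImplicit false
set_option linter.style.haveILetI false
set_option backward.isDefEq.respectTransparency false
set_option backward.isDefEq.respectTransparency.types false

universe u

open CategoryTheory AlgebraicGeometry TopologicalSpace

noncomputable section

namespace Groth.Agent.Descends

open Groth.Agent Groth.Agent.QCoh

variable {X S X' S' : Scheme.{u}} (f : X ⟶ S) (g : S' ⟶ S) (f' : X' ⟶ S') (g' : X' ⟶ X) (w : g' ≫ f = f' ≫ g)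

/-- The two inverse images along a commutative square. -/
def sqIso (M : S.Modules) :
    (Scheme.Modules.pullback g').obj ((Scheme.Modules.pullback f).obj M) ≅
      (Scheme.Modules.pullback f').obj ((Scheme.Modules.pullback g).obj M) :=
  (Scheme.Modules.pullbackComp g' f).app M ≪≫ (Scheme.Modules.pullbackCongr w).app M ≪≫
    ((Scheme.Modules.pullbackComp f' g).app M).symm

theorem congr_pullSec {Y : Scheme.{u}} {φ φ' : X ⟶ Y} (h : φ = φ') (M : Y.Modules) {W : X.Opens} {V : Y.Opens}
    (hle : W ≤ φ ⁻¹ᵁ V) (x : Γ(M, V)) :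
    ((Scheme.Modules.pullbackCongr h).hom.app M).app W (pullSec φ M hle x) =
      pullSec φ' M (h ▸ hle) x := by
  subst h
  simp [Scheme.Modules.pullbackCongr]

/-- The comparison of the inverse images on pulled back sections. -/
theorem sqIso_pullSec (M : S.Modules) {V : S.Opens} {U : X.Opens} {U' : S'.Opens} {W : X'.Opens}
    (hU : U ≤ f ⁻¹ᵁ V) (hW : W ≤ g' ⁻¹ᵁ U) (hU' : U' ≤ g ⁻¹ᵁ V) (hW' : W ≤ f' ⁻¹ᵁ U') (x : Γ(M, V)) :
    (sqIso f g f' g' w M).hom.app W (pullSec g' _ hW (pullSec f M hU x)) = pullSec f' _ hW' (pullSec g M hU' x) := by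
  refine (congrArg (fun t => ((Scheme.Modules.pullbackComp f' g).inv.app M).app W
    (((Scheme.Modules.pullbackCongr w).hom.app M).app W t)) (ExistEasy.pullSec_comp g' f M hU hW x)).trans ?_
  refine (congrArg (((Scheme.Modules.pullbackComp f' g).inv.app M).app W) (congr_pullSec w M _ x)).trans ?_
  refine (congrArg (((Scheme.Modules.pullbackComp f' g).inv.app M).app W)
    (ExistEasy.pullSec_comp f' g M hU' hW' x).symm).trans ?_
  exact congr(($((Scheme.Modules.pullbackComp f' g).hom_inv_id_app M)).app W _)

/-- The counit on pulled back sections. -/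
theorem counit_pullSec (F : X.Modules) {O : S.Opens} {W : X.Opens} (hW : W ≤ f ⁻¹ᵁ O) (x : Γ(F, f ⁻¹ᵁ O)) :
    ((Scheme.Modules.pullbackPushforwardAdjunction f).counit.app F).app W
      (pullSec f ((Scheme.Modules.pushforward f).obj F) hW
        (show Γ((Scheme.Modules.pushforward f).obj F, O) from x)) = F.presheaf.map (homOfLE hW).op x := by
  refine (QCoh.map_app_comm ((Scheme.Modules.pullbackPushforwardAdjunction f).counit.app F) (homOfLE hW) _).trans
    (congrArg _ ?_)
  exact congrArg (fun t => Scheme.Modules.Hom.app t O (show Γ((Scheme.Modules.pushforward f).obj F, O) from x))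
    ((Scheme.Modules.pullbackPushforwardAdjunction f).right_triangle_components F)

/-- The inverse image of the counit is the counit after the base change map. -/
theorem sq_counit (F : X.Modules) :
    (sqIso f g f' g' w ((Scheme.Modules.pushforward f).obj F)).hom ≫
        (Scheme.Modules.pullback f').map (CohBC.bc0 f g f' g' w F) ≫
          (Scheme.Modules.pullbackPushforwardAdjunction f').counit.app ((Scheme.Modules.pullback g').obj F) =
      (Scheme.Modules.pullback g').map ((Scheme.Modules.pullbackPushforwardAdjunction f).counit.app F) := by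
  refine PBC.pullback_hom_ext g' fun U y => ?_
  revert y
  suffices h : ((Scheme.Modules.pullbackPushforwardAdjunction g').homEquiv _ _)
      ((sqIso f g f' g' w ((Scheme.Modules.pushforward f).obj F)).hom ≫
        (Scheme.Modules.pullback f').map (CohBC.bc0 f g f' g' w F) ≫
          (Scheme.Modules.pullbackPushforwardAdjunction f').counit.app ((Scheme.Modules.pullback g').obj F)) =
      ((Scheme.Modules.pullbackPushforwardAdjunction g').homEquiv _ _)
        ((Scheme.Modules.pullback g').map ((Scheme.Modules.pullbackPushforwardAdjunction f).counit.app F)) by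
    intro y
    rw [((Scheme.Modules.pullbackPushforwardAdjunction g').homEquiv _ _).injective h]
  refine PBC.pullback_hom_ext f fun O x => ?_
  rw [Adjunction.homEquiv_unit, Adjunction.homEquiv_unit]
  let u := pullSec f ((Scheme.Modules.pushforward f).obj F) (le_refl (f ⁻¹ᵁ O)) x
  have hu : ∀ a : (Scheme.Modules.pullback g').obj ((Scheme.Modules.pullback f).obj
        ((Scheme.Modules.pushforward f).obj F)) ⟶ (Scheme.Modules.pullback g').obj F,
      (((Scheme.Modules.pullbackPushforwardAdjunction g').unit.app _ ≫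
          (Scheme.Modules.pushforward g').map a).app (f ⁻¹ᵁ O) u :
        Γ((Scheme.Modules.pullback g').obj F, g' ⁻¹ᵁ (f ⁻¹ᵁ O))) =
      a.app (g' ⁻¹ᵁ (f ⁻¹ᵁ O)) (pullSec g' _ (le_refl (g' ⁻¹ᵁ (f ⁻¹ᵁ O))) u) := fun a =>
    congrArg (a.app _) (QCoh.map_id' _ _).symm
  refine (hu _).trans (Eq.trans ?_ (hu _).symm)
  have hle : g' ⁻¹ᵁ (f ⁻¹ᵁ O) ≤ f' ⁻¹ᵁ (g ⁻¹ᵁ O) := le_of_eq (by
    rw [← Scheme.Hom.comp_preimage, ← Scheme.Hom.comp_preimage, w])
  refine Eq.trans ?_ (ExistEasy.pullSec_natural g' _ (le_refl _) u).symm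
  refine (congrArg (fun t => ((Scheme.Modules.pullbackPushforwardAdjunction f').counit.app _).app _
    (((Scheme.Modules.pullback f').map (CohBC.bc0 f g f' g' w F)).app _ t))
    (sqIso_pullSec f g f' g' w _ (le_refl _) (le_refl _) (le_refl (g ⁻¹ᵁ O)) hle x)).trans ?_
  refine (congrArg (((Scheme.Modules.pullbackPushforwardAdjunction f').counit.app _).app _)
    (ExistEasy.pullSec_natural f' (CohBC.bc0 f g f' g' w F) hle _)).trans ?_
  rw [show (CohBC.bc0 f g f' g' w F).app (g ⁻¹ᵁ O) (pullSec g _ (le_refl (g ⁻¹ᵁ O)) x) =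
    (show Γ((Scheme.Modules.pushforward f').obj ((Scheme.Modules.pullback g').obj F), g ⁻¹ᵁ O) from
      pullSec g' F (PBC.le_square f g f' g' w le_rfl) x) from PBC.bc0_app_pullSec f g f' g' w F le_rfl x]
  refine (counit_pullSec f' _ hle _).trans ?_
  refine (QCoh.map_map _ _ _).trans ?_
  refine Eq.trans ?_ (congrArg (pullSec g' F (le_refl (g' ⁻¹ᵁ (f ⁻¹ᵁ O))))
    (counit_pullSec f F (le_refl _) x)).symm
  simp only [pullSec, QCoh.map_id']

/-- The inverse image of the unit followed by the base change map is the unit. -/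
theorem sq_unit (M : S.Modules) :
    (Scheme.Modules.pullback g).map ((Scheme.Modules.pullbackPushforwardAdjunction f).unit.app M) ≫
        CohBC.bc0 f g f' g' w ((Scheme.Modules.pullback f).obj M) ≫
          (Scheme.Modules.pushforward f').map (sqIso f g f' g' w M).hom =
      (Scheme.Modules.pullbackPushforwardAdjunction f').unit.app ((Scheme.Modules.pullback g).obj M) := by
  refine PBC.pullback_hom_ext g fun O x => ?_
  refine (congrArg (fun t => ((Scheme.Modules.pushforward f').map (sqIso f g f' g' w M).hom).app _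
    ((CohBC.bc0 f g f' g' w _).app _ t)) (ExistEasy.pullSec_natural g _ (le_refl _) x)).trans ?_
  refine (congrArg (((Scheme.Modules.pushforward f').map (sqIso f g f' g' w M).hom).app _)
    (PBC.bc0_app_pullSec f g f' g' w _ (O := O) (W := g ⁻¹ᵁ O) le_rfl
      (((Scheme.Modules.pullbackPushforwardAdjunction f).unit.app M).app O x))).trans ?_
  refine (congrArg (fun t => ((Scheme.Modules.pushforward f').map (sqIso f g f' g' w M).hom).app _
    (pullSec g' ((Scheme.Modules.pullback f).obj M) (PBC.le_square f g f' g' w le_rfl) t))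
    (QCoh.map_id' (M := (Scheme.Modules.pullback f).obj M) (homOfLE (le_refl (f ⁻¹ᵁ O))) _).symm).trans ?_
  refine (sqIso_pullSec f g f' g' w M (le_refl _) (PBC.le_square f g f' g' w le_rfl) (le_refl (g ⁻¹ᵁ O))
    (le_refl _) x).trans ?_
  exact QCoh.map_id' _ _

end Groth.Agent.Descends
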