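import Groth.Agent.Descends.Strata

/-!
# The locus over which a locally free module descends to the base
-/

set_option autoImplicit false
set_option linter.style.haveILetI false
set_option linter.unusedSectionVars false
set_option backward.isDefEq.respectTransparency false
set_option backward.isDefEq.respectTransparency.types false
set_option maxHeartbeats 1000000
set_option synthInstance.maxHeartbeats 400000

universe u

open CategoryTheory CategoryTheory.Limits AlgebraicGeometry TopologicalSpace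

noncomputable section

namespace Groth.Agent.Descends

open Groth.Agent Groth.Agent.QCoh

/-- Residue fields do not change along an immersion. -/
theorem isIso_residueFieldMap {X Y : Scheme.{u}} (f : X ⟶ Y) [IsImmersion f] (x : X) :
    IsIso (f.residueFieldMap x) := by
  refine (ConcreteCategory.isIso_iff_bijective _).2 ⟨(f.residueFieldMap x).hom.injective, fun b => ?_⟩
  obtain ⟨c, rfl⟩ := X.residue_surjective x b
  obtain ⟨d, rfl⟩ := f.stalkMap_surjective x c
  exact ⟨Y.residue _ d, congr(($(Scheme.residue_residueFieldMap f x)).hom d)⟩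

variable {X S : Scheme.{u}} (f : X ⟶ S) [IsProper f] [Flat f] [LocallyOfFinitePresentation f]
  [GeometricallyConnected f] [OConst f]

/-- The universal immersion over which `E` descends. -/
theorem exists_seesaw {E : X.Modules} (hE : FlatMod.IsFinLocFree E) :
    ∃ (Z : Scheme.{u}) (ι : Z ⟶ S), IsImmersion ι ∧ LocallyOfFinitePresentation ι ∧ QuasiCompact ι ∧
      (∀ (T : Scheme.{u}) (u : T ⟶ S), (∃ u' : T ⟶ Z, u' ≫ ι = u) ↔ Desc f E u) ∧
      Set.range ι = {s : S | Desc f E (S.fromSpecResidueField s)} := by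
  choose W φ hi hl hq huniv using exists_stratum f hE
  let R := rankLocus f hE
  let ιn : ∀ n, W n ⟶ S := fun n => φ n ≫ (R n).ι
  have hmem : ∀ n (z : W n), ιn n z ∈ R n := fun n z => (φ n z).2
  let ι : (∐ W) ⟶ S := Sigma.desc ιn
  have hι : ∀ n, Sigma.ι W n ≫ ι = ιn n := fun n => Sigma.ι_desc _ _
  have hpre : ∀ n, ι ⁻¹ᵁ (R n).ι.opensRange = (Sigma.ι W n).opensRange := by
    intro n
    ext z
    obtain ⟨m, y, rfl⟩ : ∃ m y, Sigma.ι W m y = z := ⟨_, (sigmaOpenCover W).covers z⟩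
    show ι (Sigma.ι W m y) ∈ (R n).ι.opensRange ↔ Sigma.ι W m y ∈ (Sigma.ι W n).opensRange
    rw [← Scheme.Hom.comp_apply, hι, Scheme.Opens.opensRange_ι]
    constructor
    · intro h
      obtain rfl := eq_of_mem_rankLocus f hE (hmem m y) h
      exact ⟨y, rfl⟩
    · rintro ⟨y', hy'⟩
      obtain ⟨rfl, -⟩ := Sigma.mk.inj_iff.1 ((sigmaι_eq_iff W n m y' y).1 hy')
      exact hmem n y
  have hloc : ∀ {P : MorphismProperty Scheme.{u}} [IsZariskiLocalAtTarget P],
      (∀ n, P (φ n)) → P ι := by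
    intro P _ hP
    refine (IsZariskiLocalAtTarget.iff_of_iSup_eq_top R (iSup_rankLocus f hE)).2 fun n => ?_
    have h1 := IsOpenImmersion.isPullback (φ n) (Sigma.ι W n) (R n).ι ι (hι n) (hpre n)
    refine (P.arrow_mk_iso_iff (Arrow.isoMk (f := Arrow.mk (φ n)) (g := Arrow.mk (ι ∣_ R n)) ?_ (Iso.refl _) ?_)).1 (hP n)
    · exact h1.flip.isoIsPullback _ _ (isPullback_morphismRestrict ι (R n)).flip
    · exact (h1.flip.isoIsPullback_hom_snd _ _ _).trans (Category.comp_id _).symm
  have himm : IsImmersion ι := hloc hi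
  have hdι : Desc f E ι := by
    refine desc_of_cover f hE (fun n => Sigma.ι W n) (fun z => ⟨_, (sigmaOpenCover W).covers z⟩) fun n => ?_
    rw [hι n]
    exact (huniv n (W n) (ιn n) (hmem n)).1 ⟨𝟙 _, Category.id_comp _⟩
  have huniv' : ∀ (T : Scheme.{u}) (u : T ⟶ S), (∃ u' : T ⟶ ∐ W, u' ≫ ι = u) ↔ Desc f E u := by
    intro T u
    refine ⟨fun ⟨u', hu'⟩ => desc_comp f hdι hu', fun h => ?_⟩
    let U : ℕ → T.Opens := fun n => u ⁻¹ᵁ R n
    let 𝒰 : T.OpenCover := T.openCoverOfIsOpenCover U (by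
      refine eq_top_iff.2 fun t _ => ?_
      obtain ⟨n, hn⟩ := Opens.mem_iSup.1 (show u t ∈ iSup (rankLocus f hE) by rw [iSup_rankLocus]; trivial)
      exact Opens.mem_iSup.2 ⟨n, hn⟩)
    have hz : ∀ n, ∃ z : (U n : Scheme.{u}) ⟶ ∐ W, z ≫ ι = (U n).ι ≫ u := fun n => by
      obtain ⟨z, hz⟩ := (huniv n _ ((U n).ι ≫ u) fun t => t.2).2 (desc_comp f h rfl)
      exact ⟨z ≫ Sigma.ι W n, by rw [Category.assoc, hι, hz]⟩
    choose z hz using hz
    haveI : IsImmersion ι := himm
    refine ⟨𝒰.glueMorphisms z fun m n => ?_, 𝒰.hom_ext _ _ fun n => ?_⟩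
    · rw [← cancel_mono ι, Category.assoc, Category.assoc, hz, hz]
      exact pullback.condition_assoc u
    · rw [← Category.assoc, Scheme.Cover.ι_glueMorphisms, hz]
      rfl
  refine ⟨∐ W, ι, himm, hloc hl, hloc hq, huniv', Set.ext fun s => ⟨?_, fun h => ?_⟩⟩
  · rintro ⟨z, rfl⟩
    haveI := himm
    haveI := isIso_residueFieldMap ι z
    refine (huniv' _ _).1 ⟨inv (Spec.map (ι.residueFieldMap z)) ≫ (∐ W).fromSpecResidueField z, ?_⟩
    rw [Category.assoc, IsIso.inv_comp_eq, Scheme.Hom.SpecMap_residueFieldMap_fromSpecResidueField]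
  · obtain ⟨u', hu'⟩ := (huniv' _ _).2 h
    refine ⟨u' (IsLocalRing.closedPoint _), ?_⟩
    rw [← Scheme.Hom.comp_apply, hu']
    exact S.fromSpecResidueField_apply s _

/-- Descent to a point means triviality on the fibre. -/
theorem desc_point_iff (E : X.Modules) (s : S) :
    Desc f E (S.fromSpecResidueField s) ↔
      ∃ n : ℕ, Nonempty ((Scheme.Modules.pullback (f.fiberι s)).obj E ≅ FlatMod.freeMod (f.fiber s) n) := by
  constructor
  · rintro ⟨M, hM, ⟨e⟩⟩
    haveI : Subsingleton ↥(Spec (CommRingCat.of (S.residueField s : Type u))) := inferInstance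
    obtain ⟨n, ⟨ε⟩⟩ := exists_iso_free (X := Spec (S.residueField s)) hM
    exact ⟨n, ⟨e ≪≫ (Scheme.Modules.pullback _).mapIso ε ≪≫ KFlatLib.pullFreeIso _ n⟩⟩
  · rintro ⟨n, ⟨e⟩⟩
    exact ⟨FlatMod.freeMod _ n, isFinLocFree_free n, ⟨e ≪≫ (KFlatLib.pullFreeIso _ n).symm⟩⟩

end Groth.Agent.Descends
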