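import Groth.Agent.QCoh.LocFree
import Groth.Agent.H23.PullPush
import Groth.Agent.KFlatLib.Perfect.LocFree
import Groth.Agent.ConsPropLib.FibreLocFreeRank

/-!
# Ranks of finite locally free modules
-/

set_option autoImplicit false
set_option linter.style.haveILetI false
set_option backward.isDefEq.respectTransparency false
set_option backward.isDefEq.respectTransparency.types false

universe u

open CategoryTheory CategoryTheory.Limits AlgebraicGeometry TopologicalSpace

noncomputable section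

namespace Groth.Agent.Descends

open Groth.Agent Groth.Agent.QCoh

variable {X Y : Scheme.{u}}

/-- The rank of a module at a point. -/
def rk (M : X.Modules) (x : X) : ℕ := Module.finrank (X.presheaf.stalk x) (M.presheaf.stalk x)

theorem isLocallyConstant_rk {M : X.Modules} (h : FlatMod.IsFinLocFree M) : IsLocallyConstant (rk M) :=
  QCoh.isLocallyConstant_rank h

theorem rk_eq_of_rank {M : X.Modules} {n : ℕ} (h : FlatMod.IsFinLocFreeOfRank n M) (x : X) : rk M x = n :=
  (ConsPropLib.isFinLocFreeOfRank_iff.1 h).2 x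

/-- The inverse image has rank `n` if the rank is `n` at the images of all points. -/
theorem isFinLocFreeOfRank_pullback_of_rk (f : X ⟶ Y) {M : Y.Modules} (hM : FlatMod.IsFinLocFree M) {n : ℕ}
    (h : ∀ x, rk M (f x) = n) : FlatMod.IsFinLocFreeOfRank n ((Scheme.Modules.pullback f).obj M) := fun x => by
  obtain ⟨U, m, hx, ⟨e⟩⟩ := hM (f x)
  obtain rfl : m = n := by
    refine Eq.trans ?_ (h x)
    obtain ⟨_, ⟨V, hV, rfl⟩, hxV, hle⟩ :=
      Y.isBasis_affineOpens.exists_subset_of_mem_open (show f x ∈ U from hx) U.2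
    obtain ⟨l⟩ := exists_linearEquiv_of_freeIso (freeChart hV hle e)
    exact (finrank_stalk_of_freeChart hV (isQCoh_of_isFinLocFree hM) ((chartEquiv hV M).trans l) hxV).symm
  exact ⟨f ⁻¹ᵁ U, hx, ⟨((H23.PullPush.pullRestrictIso f U).app M).symm ≪≫
    (Scheme.Modules.pullback (f ∣_ U)).mapIso e ≪≫ KFlatLib.pullFreeIso _ m⟩⟩

theorem isFinLocFreeOfRank_of_iso {n : ℕ} {M N : X.Modules} (e : M ≅ N) (hM : FlatMod.IsFinLocFreeOfRank n M) :
    FlatMod.IsFinLocFreeOfRank n N := fun x => by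
  obtain ⟨U, hx, ⟨ε⟩⟩ := hM x
  exact ⟨U, hx, ⟨(Scheme.Modules.restrictFunctor U.ι).mapIso e.symm ≪≫ ε⟩⟩

theorem isFinLocFree_of_rank' {n : ℕ} {M : X.Modules} (hM : FlatMod.IsFinLocFreeOfRank n M) :
    FlatMod.IsFinLocFree M := fun x => let ⟨U, hx, e⟩ := hM x; ⟨U, n, hx, e⟩

theorem isFinLocFree_free (n : ℕ) : FlatMod.IsFinLocFree (FlatMod.freeMod X n) := fun _ =>
  ⟨⊤, n, trivial, ⟨(Scheme.Modules.restrictFunctorIsoPullback _).app _ ≪≫ KFlatLib.pullFreeIso _ n⟩⟩

/-- On a one-point scheme finite locally free modules are free. -/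
theorem exists_iso_free [Subsingleton X] [Nonempty X] {M : X.Modules} (hM : FlatMod.IsFinLocFree M) :
    ∃ n : ℕ, Nonempty (M ≅ FlatMod.freeMod X n) := by
  obtain ⟨x⟩ := ‹Nonempty X›
  obtain ⟨U, n, hx, ⟨e⟩⟩ := hM x
  have hU : U = ⊤ := top_le_iff.1 fun y _ => by rwa [Subsingleton.elim y x]
  subst hU
  haveI : IsIso (⊤ : X.Opens).ι := inferInstanceAs (IsIso X.topIso.hom)
  let j := (⊤ : X.Opens).ι
  refine ⟨n, ⟨((Scheme.Modules.pullbackId X).app M).symm ≪≫
    (Scheme.Modules.pullbackCongr (IsIso.inv_hom_id j)).symm.app M ≪≫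
    ((Scheme.Modules.pullbackComp (inv j) j).app M).symm ≪≫
    (Scheme.Modules.pullback (inv j)).mapIso ((Scheme.Modules.restrictFunctorIsoPullback j).symm.app M ≪≫ e) ≪≫
    KFlatLib.pullFreeIso _ n⟩⟩

/-- Local freeness can be checked on an open cover. -/
theorem isFinLocFree_of_cover {J : Type*} {Z : J → Scheme.{u}} (j : ∀ i, Z i ⟶ X)
    [∀ i, IsOpenImmersion (j i)] (hc : ∀ x, ∃ i, x ∈ Set.range (j i)) {M : X.Modules}
    (h : ∀ i, FlatMod.IsFinLocFree ((Scheme.Modules.pullback (j i)).obj M)) : FlatMod.IsFinLocFree M := fun x => by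
  obtain ⟨i, z, rfl⟩ := hc x
  obtain ⟨U, n, hz, ⟨e⟩⟩ := h i z
  let q : ((j i ''ᵁ U : X.Opens) : Scheme.{u}) ⟶ U := ((j i).isoImage U).inv
  have hq : q ≫ U.ι ≫ j i = (j i ''ᵁ U).ι := by simp [q]
  exact ⟨j i ''ᵁ U, n, ⟨z, hz, rfl⟩,
    ⟨(Scheme.Modules.restrictFunctorIsoPullback _).app M ≪≫ (Scheme.Modules.pullbackCongr hq.symm).app M ≪≫
      ((Scheme.Modules.pullbackComp q _).app M).symm ≪≫
      (Scheme.Modules.pullback q).mapIso (((Scheme.Modules.pullbackComp U.ι (j i)).app M).symm ≪≫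
        ((Scheme.Modules.restrictFunctorIsoPullback U.ι).app _).symm ≪≫ e) ≪≫ KFlatLib.pullFreeIso q n⟩⟩

end Groth.Agent.Descends
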