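import Groth.Agent.Descends.Univ
import Groth.Agent.S16956
import Groth.Agent.GenRdCons.Supp
import Groth.Agent.QCoh.AnnIdeal
import Groth.Agent.QCoh.SupportFT
import Groth.Agent.QuotRep.Frame
import Groth.Agent.LimMod.Descend
import Groth.Agent.ThmA.Main
import Groth.Agent.QCoh.DevissageP

/-!
# The stratum of descent over the locus of constant rank
-/

set_option autoImplicit false
set_option linter.style.haveILetI false
set_option linter.unusedSectionVars false
set_option backward.isDefEq.respectTransparency false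
set_option backward.isDefEq.respectTransparency.types false
set_option maxHeartbeats 1000000
set_option synthInstance.maxHeartbeats 400000

universe u

open CategoryTheory CategoryTheory.Limits AlgebraicGeometry TopologicalSpace Topology

noncomputable section

namespace Groth.Agent.Descends

open Groth.Agent Groth.Agent.QCoh

theorem isCompact_of_isConstructible {X : Scheme.{u}} [CompactSpace X] [QuasiSeparatedSpace X] {s : Set X}
    (hs : IsConstructible s) : IsCompact s := by
  have : Nonempty X.affineOpens := ⟨⟨⊥, isAffineOpen_bot X⟩⟩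
  have hb : TopologicalSpace.IsTopologicalBasis
      (Set.range fun A : X.affineOpens => ((A.1 : X.Opens) : Set X)) := by
    have h := X.isBasis_affineOpens
    rw [TopologicalSpace.Opens.IsBasis] at h
    convert h using 1
    ext t
    simp
  refine IsConstructible.induction_of_isTopologicalBasis (P := fun s _ => IsCompact s) _ hb
    (fun A => A.2.isCompact) (fun A t ht => ?_) (fun s _ t _ hs ht => hs.union ht) s hs
  exact A.2.isCompact.diff (isOpen_biUnion fun B _ => B.1.2)

/-- Inclusions of opens with locally constructible complement are quasi-compact. -/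
theorem quasiCompact_ι {X : Scheme.{u}} {W : X.Opens} {C : Set X} (hC : IsLocallyConstructible C)
    (hW : (W : Set X) = Cᶜ) : QuasiCompact W.ι := by
  refine (quasiCompact_iff_forall_isAffineOpen).2 fun A hA => ?_
  rw [W.ι.isOpenEmbedding.isEmbedding.isCompact_iff]
  show IsCompact (W.ι '' (W.ι ⁻¹' (A : Set X)))
  rw [Set.image_preimage_eq_inter_range, Scheme.Opens.range_ι, hW]
  haveI : IsAffine A := hA
  have h1 : IsConstructible (A.ι ⁻¹' C) :=
    (hC.preimage_of_isOpenEmbedding A.ι.isOpenEmbedding).isConstructible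
  have h2 := (isCompact_of_isConstructible (isConstructible_compl.2 h1)).image A.ι.continuous
  rwa [← Set.preimage_compl, Set.image_preimage_eq_inter_range, Scheme.Opens.range_ι, Set.inter_comm] at h2

variable {X S : Scheme.{u}} (f : X ⟶ S) [IsProper f] [Flat f] [LocallyOfFinitePresentation f]
  [GeometricallyConnected f] [OConst f] {E : X.Modules} (hE : FlatMod.IsFinLocFree E)

/-- The locus of the base over which the rank is `n`. -/
def rankLocus (n : ℕ) : S.Opens :=
  ⟨f '' (rk E ⁻¹' {n}), f.isOpenMap _ (isLocallyConstant_rk hE {n})⟩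

theorem rk_eq_of_mem {n : ℕ} {x : X} (h : f x ∈ rankLocus f hE n) : rk E x = n := by
  obtain ⟨y, hy, hyx⟩ := h
  obtain ⟨a, ha⟩ : x ∈ Set.range (f.fiberι (f x)) := by rw [f.range_fiberι]; rfl
  obtain ⟨b, hb⟩ : y ∈ Set.range (f.fiberι (f x)) := by rw [f.range_fiberι]; exact hyx
  rw [← ha, ← (show rk E y = n from hy), ← hb]
  exact ((isLocallyConstant_rk hE).comp_continuous (f.fiberι (f x)).continuous).apply_eq_of_preconnectedSpace a b

theorem iSup_rankLocus : iSup (rankLocus f hE) = ⊤ := by
  refine eq_top_iff.2 fun s _ => ?_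
  obtain ⟨x, rfl⟩ := f.surjective s
  exact Opens.mem_iSup.2 ⟨rk E x, x, rfl, rfl⟩

theorem eq_of_mem_rankLocus {m n : ℕ} {s : S} (hm : s ∈ rankLocus f hE m) (hn : s ∈ rankLocus f hE n) : m = n := by
  obtain ⟨x, rfl⟩ := f.surjective s
  exact (rk_eq_of_mem f hE hm).symm.trans (rk_eq_of_mem f hE hn)

/-- The stratum of descent over the locus of rank `n`. -/
theorem exists_stratum (n : ℕ) : ∃ (W : Scheme.{u}) (φ : W ⟶ (rankLocus f hE n : Scheme.{u})),
    IsImmersion φ ∧ LocallyOfFinitePresentation φ ∧ QuasiCompact φ ∧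
      ∀ (T : Scheme.{u}) (u : T ⟶ S), (∀ t, u t ∈ rankLocus f hE n) →
        ((∃ z, z ≫ φ ≫ (rankLocus f hE n).ι = u) ↔ Desc f E u) := by
  haveI : Coh.IsQCoh E := isQCoh_of_isFinLocFree hE
  have hfl : FlatMod.IsFlatOver f E := by
    intro x
    letI := (f.stalkMap x).hom.toAlgebra
    letI := FlatMod.moduleStalkOver f E x
    haveI : IsScalarTower (S.presheaf.stalk (f.base x)) (X.presheaf.stalk x) (E.presheaf.stalk x) :=
      IsScalarTower.of_algebraMap_smul fun _ _ => rfl
    haveI : Module.Flat (S.presheaf.stalk (f.base x)) (X.presheaf.stalk x) := Flat.stalkMap f x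
    haveI : Module.Flat (X.presheaf.stalk x) (E.presheaf.stalk x) := (isFlat_and_isFP_iff.2 hE).1 x
    exact Module.Flat.trans (S.presheaf.stalk (f.base x)) (X.presheaf.stalk x) (E.presheaf.stalk x)
  obtain ⟨Z, ζ, hi, hl, hq, huniv, -⟩ := Groth.Agent.S16956.result f E (isFP_of_isFinLocFree hE) hfl n
  let Sn := rankLocus f hE n
  let A := ζ ⁻¹ᵁ Sn
  let a : (A : Scheme.{u}) ⟶ S := A.ι ≫ ζ
  have hrk : ∀ {T : Scheme.{u}} {u : T ⟶ S}, (∀ t, u t ∈ Sn) → ∀ x, rk E (pullback.fst f u x) = n := by
    intro T u hu x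
    refine rk_eq_of_mem f hE ?_
    rw [← Scheme.Hom.comp_apply, pullback.condition, Scheme.Hom.comp_apply]
    exact hu _
  obtain ⟨hAr, hAb⟩ : GenBC.RankStratum.Stratum f n E a := (huniv _ a).1 ⟨A.ι, rfl⟩
  let p := pullback.snd f a
  let c := cT f E a
  let P := (Scheme.Modules.pullback p).obj ((Scheme.Modules.pushforward p).obj (mT f E a))
  have hPr : FlatMod.IsFinLocFreeOfRank n P := KRRReg.isFinLocFreeOfRank_pullback p hAr
  have hPf := isFinLocFree_of_rank' hPr
  have hEr : FlatMod.IsFinLocFreeOfRank n (mT f E a) :=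
    isFinLocFreeOfRank_pullback_of_rk _ hE (hrk fun t => t.2)
  have hEf := isFinLocFree_of_rank' hEr
  let K := cokernel c
  have hKfp : CohB1.IsFP K := LimMod.isFP_cokernel (isQCoh_of_isFinLocFree hPf)
    (isFT_of_isFP (isFP_of_isFinLocFree hPf)) (isFP_of_isFinLocFree hEf) c
  have hKq : Coh.IsQCoh K := isQCoh_of_isFP hKfp
  let C : Set A.toScheme := p '' CohB1.support K
  have hCcl : IsClosed C := p.isClosedMap _ (isClosed_support_of_ft (isFT_of_isFP hKfp))
  have hCcons : IsLocallyConstructible C :=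
    p.isLocallyConstructible_image (GenRdCons.isLocallyConstructible_support hKfp)
  let W : (A : Scheme.{u}).Opens := ⟨Cᶜ, hCcl.isOpen_compl⟩
  haveI : QuasiCompact W.ι := quasiCompact_ι hCcons rfl
  haveI : IsImmersion (ζ ∣_ Sn) := IsZariskiLocalAtTarget.restrict (P := @IsImmersion) hi Sn
  haveI : LocallyOfFinitePresentation (ζ ∣_ Sn) := IsZariskiLocalAtTarget.restrict hl Sn
  haveI : QuasiCompact (ζ ∣_ Sn) := IsZariskiLocalAtTarget.restrict hq Sn
  refine ⟨W, W.ι ≫ ζ ∣_ Sn, inferInstance, inferInstance, inferInstance, fun T u hu => ?_⟩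
  have hw : (W.ι ≫ ζ ∣_ Sn) ≫ Sn.ι = W.ι ≫ a := by rw [Category.assoc, morphismRestrict_ι]
  constructor
  · rintro ⟨z, rfl⟩
    refine desc_comp f (u := W.ι ≫ a) (j := z) ?_ (by rw [hw])
    let g := pullMap f a (W.ι ≫ a) W.ι rfl
    haveI := hAb g _ _ (isPullback_pullMap f (rfl : W.ι ≫ a = _))
    obtain ⟨hWr, -⟩ : GenBC.RankStratum.Stratum f n E (W.ι ≫ a) :=
      (huniv _ _).1 ⟨W.ι ≫ A.ι, by rw [Category.assoc]⟩
    haveI : PreservesColimitsOfSize.{0, 0} (Scheme.Modules.pullback g) :=
      (Scheme.Modules.pullbackPushforwardAdjunction g).leftAdjoint_preservesColimits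
    have hzero : IsZero ((Scheme.Modules.pullback g).obj K) := by
      refine ThmA.isZero_of_support_empty (isQCoh_pullback g hKq) ?_
      rw [support_pullback g hKq (isFT_of_isFP hKfp)]
      refine Set.eq_empty_iff_forall_notMem.2 fun x hx => ?_
      exact (pullback.snd f (W.ι ≫ a) x).2 ⟨g x, hx, by
        rw [← Scheme.Hom.comp_apply, (isPullback_pullMap f (rfl : W.ι ≫ a = _)).w]; rfl⟩
    haveI : Epi ((Scheme.Modules.pullback g).map c) :=
      Preadditive.epi_of_isZero_cokernel _ (hzero.of_iso (PreservesCokernel.iso (Scheme.Modules.pullback g) c).symm)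
    haveI := QuotRep.isIso_of_epi_rank (KRRReg.isFinLocFreeOfRank_pullback g hPr)
      (KRRReg.isFinLocFreeOfRank_pullback g hEr) ((Scheme.Modules.pullback g).map c)
    haveI := (isIso_map_counit_iff f (rfl : W.ι ≫ a = _)).1 ‹_›
    exact desc_of_counit f (isFinLocFree_of_rank' hWr)
  · intro h
    have hs := stratum_of_desc f hE (hrk hu) h
    obtain ⟨z₀, hz₀⟩ := (huniv T u).2 hs
    have hzA : Set.range z₀ ⊆ Set.range A.ι := by
      rw [Scheme.Opens.range_ι]
      rintro _ ⟨t, rfl⟩
      show ζ (z₀ t) ∈ Sn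
      rw [← Scheme.Hom.comp_apply, hz₀]
      exact hu t
    let z₁ := IsOpenImmersion.lift A.ι z₀ hzA
    have hz₁ : z₁ ≫ a = u := by
      show z₁ ≫ A.ι ≫ ζ = u
      rw [← Category.assoc, IsOpenImmersion.lift_fac, hz₀]
    let g := pullMap f a u z₁ hz₁
    haveI := hAb g _ _ (isPullback_pullMap f hz₁)
    haveI : IsIso ((Scheme.Modules.pullback g).map c) := (isIso_map_counit_iff f hz₁).2 (of_desc f h).1
    haveI : PreservesColimitsOfSize.{0, 0} (Scheme.Modules.pullback g) :=
      (Scheme.Modules.pullbackPushforwardAdjunction g).leftAdjoint_preservesColimits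
    have hzero : IsZero ((Scheme.Modules.pullback g).obj K) :=
      (isZero_cokernel_of_epi ((Scheme.Modules.pullback g).map c)).of_iso
        (PreservesCokernel.iso (Scheme.Modules.pullback g) c)
    have hempty := (support_pullback g hKq (isFT_of_isFP hKfp)).symm.trans
      (QCoh.support_eq_empty_of_isZero hzero (isQCoh_pullback g hKq))
    have hzW : Set.range z₁ ⊆ Set.range W.ι := by
      rw [Scheme.Opens.range_ι]
      rintro _ ⟨t, rfl⟩ ⟨k, hk, hkt⟩
      obtain ⟨x, hx, -⟩ := Scheme.Pullback.exists_preimage_pullback (f := p) (g := z₁) k t hkt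
      have hp := isPullback_pullMap f hz₁
      have hgx : g (hp.isoPullback.inv x) = k := by
        rw [← Scheme.Hom.comp_apply, hp.isoPullback_inv_fst, hx]
      exact (Set.eq_empty_iff_forall_notMem.1 hempty) (hp.isoPullback.inv x) (show g _ ∈ CohB1.support K from hgx ▸ hk)
    exact ⟨IsOpenImmersion.lift W.ι z₁ hzW, by rw [hw, ← Category.assoc, IsOpenImmersion.lift_fac, hz₁]⟩

end Groth.Agent.Descends
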