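import Groth.Agent.Descends.Compat
import Groth.Agent.Descends.Rank
import Groth.Agent.H23.CubeField
import Groth.Agent.Lib.GammaDescent
import Groth.Agent.QuotRep.HighBCGlobal
import Groth.Agent.GenBC.RankStratum
import Groth.Agent.CohBC.God

/-!
# When does an inverse image of a finite locally free module descend to the base?

For a proper flat morphism with geometrically connected and reduced fibres a module descends to the
base if and only if its direct image is finite locally free and the counit is invertible.
-/

set_option autoImplicit false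
set_option linter.style.haveILetI false
set_option linter.unusedSectionVars false
set_option backward.isDefEq.respectTransparency false
set_option backward.isDefEq.respectTransparency.types false
set_option maxHeartbeats 1000000
set_option synthInstance.maxHeartbeats 400000

universe u

open CategoryTheory CategoryTheory.Limits AlgebraicGeometry TopologicalSpace

noncomputable section

namespace Groth.Agent.Descends

open Groth.Agent Groth.Agent.QCoh

/-- After any change of base, functions on the source come from the base. -/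
class OConst {X S : Scheme.{u}} (f : X ⟶ S) : Prop where
  bij : ∀ (T : Scheme.{u}) (g : T ⟶ S) (U : T.Opens), Function.Bijective ((pullback.snd f g).app U)

variable {X S : Scheme.{u}} (f : X ⟶ S) [IsProper f] [Flat f] [LocallyOfFinitePresentation f]

/-- Functions on the fibres are constants. -/
theorem constFibres [GeometricallyConnected f] [GeometricallyReduced f] : H23.RigidApply.ConstFibres f := fun s => by
  let Y := Over.mk (pullback.snd f (S.fromSpecResidueField s))
  haveI : IsProper Y.hom := inferInstanceAs (IsProper (pullback.snd f (S.fromSpecResidueField s)))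
  haveI : GeometricallyReduced Y.hom := inferInstanceAs (GeometricallyReduced (pullback.snd f (S.fromSpecResidueField s)))
  haveI : GeometricallyConnected Y.hom := MorphismProperty.pullback_snd _ _ inferInstance
  exact H23.CubeField.bijective_appTop_of_connected Y

/-- Geometrically connected and reduced fibres suffice. -/
instance oConst_of_connected [GeometricallyConnected f] [GeometricallyReduced f] : OConst f := ⟨fun T g U => by
  haveI : GeometricallyConnected (pullback.snd f g) := MorphismProperty.pullback_snd _ _ inferInstance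
  exact GammaDescent.bijective_app (pullback.snd f g) (constFibres (pullback.snd f g)) U⟩

variable [GeometricallyConnected f] [OConst f]

/-- After any change of base, functions come from the base. -/
theorem bijective_app {X' T : Scheme.{u}} {g' : X' ⟶ X} {f' : X' ⟶ T} {g : T ⟶ S}
    (h : IsPullback g' f' f g) (U : T.Opens) : Function.Bijective (f'.app U) := by
  rw [show f' = h.isoPullback.hom ≫ pullback.snd f g from h.isoPullback_hom_snd.symm, Scheme.Hom.comp_app]
  show Function.Bijective (⇑(h.isoPullback.hom.app (pullback.snd f g ⁻¹ᵁ U)) ∘ ⇑((pullback.snd f g).app U))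
  exact Function.Bijective.comp
    (ConcreteCategory.bijective_of_isIso (h.isoPullback.hom.app (pullback.snd f g ⁻¹ᵁ U))) (OConst.bij T g U)

/-- The inverse image of `E` descends along the base change by `u`. -/
def Desc (E : X.Modules) {T : Scheme.{u}} (u : T ⟶ S) : Prop :=
  ∃ M : T.Modules, FlatMod.IsFinLocFree M ∧
    Nonempty ((Scheme.Modules.pullback (pullback.fst f u)).obj E ≅
      (Scheme.Modules.pullback (pullback.snd f u)).obj M)

/-- The inverse image of `E` over `T`. -/
abbrev mT (E : X.Modules) {T : Scheme.{u}} (u : T ⟶ S) : (pullback f u).Modules :=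
  (Scheme.Modules.pullback (pullback.fst f u)).obj E

/-- The counit over `T`. -/
abbrev cT (E : X.Modules) {T : Scheme.{u}} (u : T ⟶ S) :=
  (Scheme.Modules.pullbackPushforwardAdjunction (pullback.snd f u)).counit.app (mT f E u)

variable {T T' : Scheme.{u}} {u : T ⟶ S} {v : T' ⟶ S} {j : T' ⟶ T}

/-- The map between two base changes. -/
def pullMap (u : T ⟶ S) (v : T' ⟶ S) (j : T' ⟶ T) (hj : j ≫ u = v) : pullback f v ⟶ pullback f u :=
  pullback.lift (pullback.fst f v) (pullback.snd f v ≫ j) (by rw [Category.assoc, hj, pullback.condition])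

theorem isPullback_pullMap (hj : j ≫ u = v) :
    IsPullback (pullMap f u v j hj) (pullback.snd f v) (pullback.snd f u) j :=
  IsPullback.of_right (by rw [pullMap, pullback.lift_fst, hj]; exact IsPullback.of_hasPullback f v)
    (pullback.lift_snd _ _ _) (IsPullback.of_hasPullback f u)

/-- The inverse image of the inverse image. -/
def mIso (E : X.Modules) (hj : j ≫ u = v) :
    (Scheme.Modules.pullback (pullMap f u v j hj)).obj (mT f E u) ≅ mT f E v :=
  (Scheme.Modules.pullbackComp _ _).app E ≪≫ (Scheme.Modules.pullbackCongr (pullback.lift_fst _ _ _)).app E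

theorem desc_comp {E : X.Modules} (h : Desc f E u) (hj : j ≫ u = v) : Desc f E v := by
  obtain ⟨M, hM, ⟨e⟩⟩ := h
  exact ⟨(Scheme.Modules.pullback j).obj M, KFlatLib.isFinLocFree_pullback j hM,
    ⟨(mIso f E hj).symm ≪≫ (Scheme.Modules.pullback _).mapIso e ≪≫
      sqIso (pullback.snd f u) j (pullback.snd f v) (pullMap f u v j hj) (isPullback_pullMap f hj).w M⟩⟩

/-- Base change of degree zero holds for inverse images of finite locally free modules. -/
theorem isIso_bc0_pullback {M : T.Modules} (hM : FlatMod.IsFinLocFree M) {X'' T'' : Scheme.{u}}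
    {g' : X'' ⟶ pullback f u} {f'' : X'' ⟶ T''} {g : T'' ⟶ T} (h : IsPullback g' f'' (pullback.snd f u) g) :
    IsIso (CohBC.bc0 (pullback.snd f u) g f'' g' h.w ((Scheme.Modules.pullback (pullback.snd f u)).obj M)) := by
  let p := pullback.snd f u
  haveI := H23.PullPush.isIso_unit_of_isFinLocFree p (bijective_app f (IsPullback.of_hasPullback f u)) M hM
  haveI := H23.PullPush.isIso_unit_of_isFinLocFree f''
    (bijective_app f (h.paste_horiz (IsPullback.of_hasPullback f u))) _ (KFlatLib.isFinLocFree_pullback g hM)
  have he := sq_unit p g f'' g' h.w M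
  haveI : IsIso ((Scheme.Modules.pullback g).map ((Scheme.Modules.pullbackPushforwardAdjunction p).unit.app M) ≫
      CohBC.bc0 p g f'' g' h.w ((Scheme.Modules.pullback p).obj M) ≫
        (Scheme.Modules.pushforward f'').map (sqIso p g f'' g' h.w M).hom) := by rw [he]; infer_instance
  haveI := IsIso.of_isIso_comp_left
    ((Scheme.Modules.pullback g).map ((Scheme.Modules.pullbackPushforwardAdjunction p).unit.app M))
    (CohBC.bc0 p g f'' g' h.w ((Scheme.Modules.pullback p).obj M) ≫
      (Scheme.Modules.pushforward f'').map (sqIso p g f'' g' h.w M).hom)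
  exact IsIso.of_isIso_comp_right (CohBC.bc0 p g f'' g' h.w ((Scheme.Modules.pullback p).obj M))
    ((Scheme.Modules.pushforward f'').map (sqIso p g f'' g' h.w M).hom)

/-- What descent gives. -/
theorem of_desc {E : X.Modules} (h : Desc f E u) :
    IsIso (cT f E u) ∧ FlatMod.IsFinLocFree ((Scheme.Modules.pushforward (pullback.snd f u)).obj (mT f E u)) ∧
      ∀ ⦃X'' T'' : Scheme.{u}⦄ (g' : X'' ⟶ pullback f u) (f'' : X'' ⟶ T'') (g : T'' ⟶ T)
        (hp : IsPullback g' f'' (pullback.snd f u) g),
        IsIso (CohBC.bc0 (pullback.snd f u) g f'' g' hp.w (mT f E u)) := by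
  obtain ⟨M, hM, ⟨e⟩⟩ := h
  have hb := bijective_app f (IsPullback.of_hasPullback f u)
  refine ⟨(NatTrans.isIso_app_iff_of_iso _ e).2 (H23.PullPush.isIso_counit_pullback_of_isFinLocFree _ hb M hM),
    ?_, fun X'' T'' g' f'' g hp => QuotRep.isIso_bc0_of_iso _ hp.w e.symm (isIso_bc0_pullback f hM hp)⟩
  haveI := H23.PullPush.isIso_unit_of_isFinLocFree _ hb M hM
  exact H23.PullPush.isFinLocFree_of_iso
    (asIso ((Scheme.Modules.pullbackPushforwardAdjunction (pullback.snd f u)).unit.app M) ≪≫
      (Scheme.Modules.pushforward (pullback.snd f u)).mapIso e.symm) hM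

/-- An invertible counit with finite locally free direct image gives descent. -/
theorem desc_of_counit {E : X.Modules} [IsIso (cT f E u)]
    (hp : FlatMod.IsFinLocFree ((Scheme.Modules.pushforward (pullback.snd f u)).obj (mT f E u))) : Desc f E u :=
  ⟨_, hp, ⟨(asIso (cT f E u)).symm⟩⟩

/-- The rank of the direct image of a module which descends. -/
theorem stratum_of_desc {E : X.Modules} (hE : FlatMod.IsFinLocFree E) {n : ℕ}
    (hn : ∀ x, rk E (pullback.fst f u x) = n) (h : Desc f E u) : GenBC.RankStratum.Stratum f n E u := by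
  obtain ⟨hc, hp, hb⟩ := of_desc f h
  refine ⟨ConsPropLib.isFinLocFreeOfRank_iff.2 ⟨hp, fun t => ?_⟩, hb⟩
  obtain ⟨x, hx⟩ := (pullback.snd f u).surjective t
  let M := (Scheme.Modules.pushforward (pullback.snd f u)).obj (mT f E u)
  obtain ⟨U, m, ht, ⟨e⟩⟩ := hp t
  have hm : rk M t = m := by
    obtain ⟨_, ⟨V, hV, rfl⟩, hxV, hle⟩ :=
      T.isBasis_affineOpens.exists_subset_of_mem_open (show t ∈ U from ht) U.2
    obtain ⟨l⟩ := exists_linearEquiv_of_freeIso (freeChart hV hle e)
    exact finrank_stalk_of_freeChart hV (isQCoh_of_isFinLocFree hp) ((chartEquiv hV M).trans l) hxV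
  let P := (Scheme.Modules.pullback (pullback.snd f u)).obj M
  have h1 : rk P x = n :=
    rk_eq_of_rank (isFinLocFreeOfRank_of_iso (@asIso _ _ _ _ (cT f E u) hc).symm
      (isFinLocFreeOfRank_pullback_of_rk (pullback.fst f u) hE hn)) x
  let W := pullback.snd f u ⁻¹ᵁ U
  have hxW : x ∈ W := by show pullback.snd f u x ∈ U; rw [hx]; exact ht
  have eW : P.restrict W.ι ≅ FlatMod.freeMod (W : Scheme.{u}) m :=
    ((H23.PullPush.pullRestrictIso (pullback.snd f u) U).app M).symm ≪≫
      (Scheme.Modules.pullback (pullback.snd f u ∣_ U)).mapIso e ≪≫ KFlatLib.pullFreeIso _ m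
  have h2 : rk P x = m := by
    obtain ⟨_, ⟨V, hV, rfl⟩, hxV, hle⟩ :=
      (pullback f u).isBasis_affineOpens.exists_subset_of_mem_open (show x ∈ W from hxW) W.2
    obtain ⟨l⟩ := exists_linearEquiv_of_freeIso (freeChart hV hle eW)
    exact finrank_stalk_of_freeChart hV (isQCoh_of_isFinLocFree (KFlatLib.isFinLocFree_pullback _ hp))
      ((chartEquiv hV P).trans l) hxV
  exact hm.trans (h2.symm.trans h1)

/-- Inverse image of the counit. -/
theorem isIso_map_counit_iff {E : X.Modules} (hj : j ≫ u = v)
    [IsIso (CohBC.bc0 (pullback.snd f u) j (pullback.snd f v) (pullMap f u v j hj) (isPullback_pullMap f hj).w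
      (mT f E u))] :
    IsIso ((Scheme.Modules.pullback (pullMap f u v j hj)).map (cT f E u)) ↔ IsIso (cT f E v) := by
  rw [← sq_counit (pullback.snd f u) j (pullback.snd f v) (pullMap f u v j hj) (isPullback_pullMap f hj).w
    (mT f E u), isIso_comp_left_iff, isIso_comp_left_iff]
  exact NatTrans.isIso_app_iff_of_iso _ (mIso f E hj)

/-- Descent is local on the base. -/
theorem desc_of_cover {E : X.Modules} (hE : FlatMod.IsFinLocFree E) {J : Type*} {Z : J → Scheme.{u}}
    (j : ∀ i, Z i ⟶ T) [∀ i, IsOpenImmersion (j i)] (hc : ∀ t, ∃ i, t ∈ Set.range (j i))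
    (h : ∀ i, Desc f E (j i ≫ u)) : Desc f E u := by
  have hq : Coh.IsQCoh (mT f E u) :=
    QCoh.isQCoh_pullback _ (isQCoh_of_isFinLocFree hE)
  have hb : ∀ i, IsIso (CohBC.bc0 (pullback.snd f u) (j i) (pullback.snd f (j i ≫ u))
      (pullMap f u _ (j i) rfl) (isPullback_pullMap f rfl).w (mT f E u)) := fun i =>
    CohBC.isIso_bc0 _ (j i) _ _ (isPullback_pullMap f rfl) hq
  haveI : IsIso (cT f E u) := by
    refine H23.ModLoc.isIso_of_locally _ fun x => ?_
    obtain ⟨i, z, hz⟩ := hc (pullback.snd f u x)
    haveI := hb i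
    let g := pullMap f u (j i ≫ u) (j i) rfl
    haveI hg : IsOpenImmersion g := MorphismProperty.of_isPullback (isPullback_pullMap f rfl).flip inferInstance
    obtain ⟨y, hy, -⟩ : ∃ y, g y = x ∧ True := by
      have hp := (isPullback_pullMap f (u := u) (j := j i) rfl)
      obtain ⟨y, hy1, hy2⟩ := Scheme.Pullback.exists_preimage_pullback (f := pullback.snd f u) (g := j i) x z hz.symm
      exact ⟨hp.isoPullback.inv y, by rw [← Scheme.Hom.comp_apply, hp.isoPullback_inv_fst, hy1], trivial⟩
    haveI : IsIso ((Scheme.Modules.pullback g).map (cT f E u)) := (isIso_map_counit_iff f rfl).2 (of_desc f (h i)).1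
    let O := g.opensRange
    let k := g.isoOpensRange.inv
    have hk : k ≫ g = O.ι := g.isoOpensRange_inv_comp
    refine ⟨O, ⟨y, hy⟩, ?_⟩
    rw [NatIso.isIso_map_iff (Scheme.Modules.restrictFunctorIsoPullback O.ι ≪≫
      Scheme.Modules.pullbackCongr hk.symm ≪≫ (Scheme.Modules.pullbackComp k g).symm) (cT f E u)]
    exact Functor.map_isIso (Scheme.Modules.pullback k) ((Scheme.Modules.pullback g).map (cT f E u))
  refine desc_of_counit f (isFinLocFree_of_cover j hc fun i => ?_)
  exact H23.PullPush.isFinLocFree_of_iso ((Scheme.Modules.pushforward _).mapIso (mIso f E (rfl : j i ≫ u = _)).symm ≪≫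
    (@asIso _ _ _ _ _ (hb i)).symm) (of_desc f (h i)).2.1

end Groth.Agent.Descends
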